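import Cfsg.Agent.H583.BR.Flag
import Cfsg.Agent.H932.BR.PslAct

/-!
# S4829, PSL: the flag characters as permutation characters on subspaces and flags (helper829)

* `card_fixedBy_quot` : the permutation character of a transitive `G`-set;
* `fz_flg_om` : `fz (flg n F a)` is the number of fixed `k`-subspaces if the partial sums of `a` are `0, k, n`;
* `fz_flg_fl` : `fz (flg n F a)` is the number of fixed flags `U_k ≤ U_l` if the partial sums of `a` are `0, k, l, n`.
-/

set_option autoImplicit false
set_option linter.unusedSectionVars false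

namespace Cfsg.Agent.H829.CY

open scoped MatrixGroups
open Matrix Finset Cfsg Module
open Cfsg.Agent.H583.BR Cfsg.Agent.H139.BlockCount Cfsg.Agent.H139.FlagInner Cfsg.Agent.H932.BR
open Cfsg.Agent.ClassicalGeometry.AutPSL.Root

section act

variable {G : Type*} [Group G] {Ω : Type*} [MulAction G Ω]

/-- fixed points on a transitive set and on the cosets of the stabilizer -/
theorem card_fixedBy_quot {H : Subgroup G} (x₀ : Ω) (hH : ∀ g : G, g ∈ H ↔ g • x₀ = x₀)
    (htr : ∀ x : Ω, ∃ g : G, g • x₀ = x) (g : G) :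
    Nat.card (MulAction.fixedBy (G ⧸ H) g) = Nat.card (MulAction.fixedBy Ω g) := by
  have hw : ∀ a b : G, (QuotientGroup.leftRel H) a b → a • x₀ = b • x₀ := by
    intro a b hab
    rw [QuotientGroup.leftRel_apply, hH, mul_smul, inv_smul_eq_iff] at hab
    exact hab.symm
  let φ : G ⧸ H → Ω := Quotient.lift (fun a : G => a • x₀) hw
  have hφ : ∀ (a : G) (c : G ⧸ H), φ (a • c) = a • φ c := by
    intro a c
    induction c using QuotientGroup.induction_on with
    | H b => exact mul_smul a b x₀
  have hinj : Function.Injective φ := by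
    intro c c' h
    induction c using QuotientGroup.induction_on with
    | H b =>
      induction c' using QuotientGroup.induction_on with
      | H b' =>
        have h1 : b • x₀ = b' • x₀ := h
        rw [QuotientGroup.eq, hH, mul_smul, inv_smul_eq_iff]
        exact h1.symm
  have hsurj : Function.Surjective φ := by
    intro x
    obtain ⟨a, rfl⟩ := htr x
    exact ⟨(a : G ⧸ H), rfl⟩
  refine Nat.card_congr ((Equiv.ofBijective φ ⟨hinj, hsurj⟩).subtypeEquiv fun c => ?_)
  rw [MulAction.mem_fixedBy, MulAction.mem_fixedBy]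
  show g • c = c ↔ g • φ c = φ c
  rw [← hφ]
  exact hinj.eq_iff.symm

end act

variable {F : Type*} [Field F] {n : ℕ}

/-- the span of the first `s` unit vectors -/
def St (F : Type*) [Field F] (n s : ℕ) : Submodule F (Fin n → F) where
  carrier := {v | ∀ i, s ≤ i.val → v i = 0}
  zero_mem' := fun _ _ => rfl
  add_mem' := fun {v w} hv hw i hi => by rw [Pi.add_apply, hv i hi, hw i hi, add_zero]
  smul_mem' := fun c v hv i hi => by rw [Pi.smul_apply, hv i hi, smul_zero]

theorem mem_St {s : ℕ} {v : Fin n → F} : v ∈ St F n s ↔ ∀ i, s ≤ i.val → v i = 0 := Iff.rfl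

theorem St_mono {s t : ℕ} (h : s ≤ t) : St F n s ≤ St F n t := fun _ hv i hi => hv i (h.trans hi)

theorem St_zero : St F n 0 = ⊥ := by
  rw [Submodule.eq_bot_iff]
  intro v hv
  funext i
  exact hv i (Nat.zero_le _)

theorem St_top : St F n n = ⊤ := by
  rw [Submodule.eq_top_iff']
  intro v i hi
  exact absurd i.2 (not_lt.2 hi)

theorem finrank_St {s : ℕ} (hs : s ≤ n) : finrank F (St F n s) = s := by
  have e : St F n s ≃ₗ[F] (Fin s → F) :=
    { toFun := fun v i => v.1 (Fin.castLE hs i)
      map_add' := fun _ _ => rfl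
      map_smul' := fun _ _ => rfl
      invFun := fun w => ⟨fun i => if h : i.val < s then w ⟨i.val, h⟩ else 0, fun i hi => dif_neg (not_lt.2 hi)⟩
      left_inv := fun v => by
        apply Subtype.ext
        funext i
        by_cases h : i.val < s
        · exact dif_pos h
        · rw [v.2 i (not_lt.1 h)]
          exact dif_neg h
      right_inv := fun w => by
        funext i
        exact dif_pos i.2 }
  rw [e.finrank_eq, finrank_fin_fun]

/-- the standard parabolic subgroup as a stabilizer -/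
theorem mem_slp_iff {a : Fin n → ℕ} (ha : ∑ i, a i = n) (g : SpecialLinearGroup (Fin n) F) :
    g ∈ slp n F a ↔ ∀ c ≤ n, ∀ v ∈ St F n (psum a c), (g : Matrix (Fin n) (Fin n) F) *ᵥ v ∈ St F n (psum a c) := by
  have h0 : psum a n = n := by rw [psum_last, ha]
  constructor
  · intro hg c hc v hv i hi
    have hB : (g : Matrix (Fin n) (Fin n) F).BlockTriangular (compLabel a) := hg
    have h1 : ∀ j, c ≤ compLabel a j ↔ psum a c ≤ j.val := by
      intro j
      rw [← not_lt, ← not_lt, compLabel_lt_iff a j hc h0]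
    exact stable (compLabel a) hB (fun j hj => hv j ((h1 j).1 hj)) i ((h1 i).2 hi)
  · intro h
    change (g : Matrix (Fin n) (Fin n) F).BlockTriangular (compLabel a)
    intro i j hij
    have hj : compLabel a j < compLabel a j + 1 := Nat.lt_succ_self _
    have hn : compLabel a j + 1 ≤ n := compLabel_lt a ha j
    rw [compLabel_lt_iff a j hn h0] at hj
    have hi : ¬ compLabel a i < compLabel a j + 1 := by omega
    rw [compLabel_lt_iff a i hn h0, not_lt] at hi
    have h1 : (Pi.single j 1 : Fin n → F) ∈ St F n (psum a (compLabel a j + 1)) := by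
      intro r hr
      rw [Pi.single_apply, if_neg]
      rintro rfl
      omega
    have h2 := h _ hn _ h1 i hi
    rw [Matrix.mulVec_single_one] at h2
    exact h2

theorem map_eq_iff (g : SpecialLinearGroup (Fin n) F) (W : Submodule F (Fin n → F)) :
    W.map (Matrix.toLin' (g : Matrix (Fin n) (Fin n) F)) = W ↔
      ∀ v ∈ W, (g : Matrix (Fin n) (Fin n) F) *ᵥ v ∈ W := by
  constructor
  · intro h v hv
    rw [← h]
    exact ⟨v, hv, Matrix.toLin'_apply _ _⟩
  · intro h
    apply Submodule.eq_of_le_of_finrank_eq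
    · rintro _ ⟨v, hv, rfl⟩
      rw [Matrix.toLin'_apply]
      exact h v hv
    · exact LinearEquiv.finrank_map_eq (Matrix.SpecialLinearGroup.toLin' g) W

/-- the standard subspace -/
def st (F : Type*) [Field F] {n k : ℕ} (hk : k ≤ n) : Om F n k := ⟨St F n k, finrank_St hk⟩

theorem om_trans {k : ℕ} (hk : k ≤ n) (x : Om F n k) : ∃ g : ProjectiveSpecialLinearGroup (Fin n) F,
    g • st F hk = x := by
  obtain ⟨g, hg, -⟩ := exists_sl_pair (U := St F n k) (W := St F n k) (U' := x.1) (W' := x.1)
    ((finrank_St hk).trans x.2.symm) ((finrank_St hk).trans x.2.symm)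
    (by rw [inf_idem, inf_idem, finrank_St hk, x.2])
  exact ⟨QuotientGroup.mk g, Subtype.ext hg⟩

theorem pr_smul_eq {k : ℕ} (g : SpecialLinearGroup (Fin n) F) (x : Om F n k) :
    (QuotientGroup.mk g : ProjectiveSpecialLinearGroup (Fin n) F) • x = x ↔
      ∀ v ∈ x.1, (g : Matrix (Fin n) (Fin n) F) *ᵥ v ∈ x.1 := by
  rw [mk_smul, ← map_eq_iff, Subtype.ext_iff, Cfsg.Agent.H932.BR.coe_smul]

/-- **The permutation character on the `k`-subspaces.** -/
theorem fz_flg_om {k : ℕ} (hk : k ≤ n) {a : Fin n → ℕ} (ha : ∑ i, a i = n)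
    (h1 : ∀ c ≤ n, psum a c = 0 ∨ psum a c = k ∨ psum a c = n) (h2 : ∃ c ≤ n, psum a c = k)
    (g : ProjectiveSpecialLinearGroup (Fin n) F) :
    Nat.card (MulAction.fixedBy (ProjectiveSpecialLinearGroup (Fin n) F ⧸ flg n F a) g) =
      Nat.card (MulAction.fixedBy (Om F n k) g) := by
  refine card_fixedBy_quot (st F hk) ?_ (om_trans hk) g
  intro x
  obtain ⟨s, rfl⟩ := pr_surjective x
  rw [mem_flg, mem_slp_iff ha]
  refine Iff.trans ?_ (pr_smul_eq s _).symm
  constructor
  · intro h
    obtain ⟨c, hc, hck⟩ := h2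
    have := h c hc
    rw [hck] at this
    exact this
  · intro h c hc v hv
    rcases h1 c hc with h3 | h3 | h3
    · rw [h3, St_zero, Submodule.mem_bot] at hv
      rw [hv, Matrix.mulVec_zero]
      exact Submodule.zero_mem _
    · rw [h3] at hv ⊢
      exact h v hv
    · rw [h3, St_top]
      exact Submodule.mem_top

/-- **The permutation character on the flags `U_k ≤ U_l`.** -/
theorem fz_flg_fl {k l : ℕ} (hkl : k ≤ l) (hl : l ≤ n) {a : Fin n → ℕ} (ha : ∑ i, a i = n)
    (h1 : ∀ c ≤ n, psum a c = 0 ∨ psum a c = k ∨ psum a c = l ∨ psum a c = n)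
    (h2 : ∃ c ≤ n, psum a c = k) (h3 : ∃ c ≤ n, psum a c = l) (g : ProjectiveSpecialLinearGroup (Fin n) F) :
    Nat.card (MulAction.fixedBy (ProjectiveSpecialLinearGroup (Fin n) F ⧸ flg n F a) g) =
      Nat.card {x : Om F n k × Om F n l // x.1.1 ≤ x.2.1 ∧ g • x.1 = x.1 ∧ g • x.2 = x.2} := by
  have hmap : ∀ (s : ProjectiveSpecialLinearGroup (Fin n) F) (x : Om F n k × Om F n l), x.1.1 ≤ x.2.1 →
      (s • x).1.1 ≤ (s • x).2.1 := by
    intro s x hx
    obtain ⟨s, rfl⟩ := QuotientGroup.mk_surjective s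
    exact Submodule.map_mono hx
  let act : MulAction (ProjectiveSpecialLinearGroup (Fin n) F) {x : Om F n k × Om F n l // x.1.1 ≤ x.2.1} :=
    { smul := fun s x => ⟨s • x.1, hmap s x.1 x.2⟩
      one_smul := fun x => Subtype.ext (one_smul _ x.1)
      mul_smul := fun s t x => Subtype.ext (mul_smul s t x.1) }
  have hsm : ∀ (s : ProjectiveSpecialLinearGroup (Fin n) F) (x : {x : Om F n k × Om F n l // x.1.1 ≤ x.2.1}),
      (s • x).1 = s • x.1 := fun _ _ => rfl
  let x₀ : {x : Om F n k × Om F n l // x.1.1 ≤ x.2.1} := ⟨(st F (hkl.trans hl), st F hl), St_mono hkl⟩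
  rw [card_fixedBy_quot (Ω := {x : Om F n k × Om F n l // x.1.1 ≤ x.2.1}) x₀]
  · refine Nat.card_congr
      { toFun := fun x => ⟨x.1.1, x.1.2, ?_, ?_⟩
        invFun := fun x => ⟨⟨x.1, x.2.1⟩, ?_⟩
        left_inv := fun _ => rfl
        right_inv := fun _ => rfl }
    · exact congrArg (fun y => y.1.1) x.2
    · exact congrArg (fun y => y.1.2) x.2
    · exact Subtype.ext (Prod.ext x.2.2.1 x.2.2.2)
  · intro x
    obtain ⟨s, rfl⟩ := pr_surjective x
    rw [mem_flg, mem_slp_iff ha, Subtype.ext_iff, hsm, Prod.ext_iff]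
    refine Iff.trans ?_ (and_congr (pr_smul_eq s (st F (hkl.trans hl))) (pr_smul_eq s (st F hl))).symm
    constructor
    · intro h
      obtain ⟨c, hc, hck⟩ := h2
      obtain ⟨c', hc', hck'⟩ := h3
      have h4 := h c hc
      have h5 := h c' hc'
      rw [hck] at h4
      rw [hck'] at h5
      exact ⟨h4, h5⟩
    · intro h c hc v hv
      rcases h1 c hc with h4 | h4 | h4 | h4
      · rw [h4, St_zero, Submodule.mem_bot] at hv
        rw [hv, Matrix.mulVec_zero]
        exact Submodule.zero_mem _
      · rw [h4] at hv ⊢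
        exact h.1 v hv
      · rw [h4] at hv ⊢
        exact h.2 v hv
      · rw [h4, St_top]
        exact Submodule.mem_top
  · rintro ⟨⟨x, y⟩, hxy⟩
    have e1 : St F n k ⊓ St F n l = St F n k := inf_eq_left.2 (St_mono hkl)
    have e2 : x.1 ⊓ y.1 = x.1 := inf_eq_left.2 hxy
    obtain ⟨s, hs1, hs2⟩ := exists_sl_pair (U := St F n k) (W := St F n l) (U' := x.1) (W' := y.1)
      ((finrank_St (hkl.trans hl)).trans x.2.symm) ((finrank_St hl).trans y.2.symm)
      (by rw [e1, e2, finrank_St (hkl.trans hl), x.2])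
    exact ⟨QuotientGroup.mk s, Subtype.ext (Prod.ext (Subtype.ext hs1) (Subtype.ext hs2))⟩

/-! ### compositions `(x, y, z, 0, ..., 0)` -/

section three

variable {x y z : ℕ} {a : Fin n → ℕ}

theorem psum_three (hn : 3 ≤ n) (ha : ∀ i : Fin n, a i = if i.val = 0 then x else if i.val = 1 then y else
    if i.val = 2 then z else 0) : psum a 0 = 0 ∧ psum a 1 = x ∧ psum a 2 = x + y ∧
    ∀ c, 3 ≤ c → c ≤ n → psum a c = x + y + z := by
  have h1 : psum a 1 = x := by
    have := psum_succ a (⟨0, by omega⟩ : Fin n)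
    rw [ha] at this
    simp only [if_pos] at this
    rw [psum_zero, zero_add, zero_add] at this
    exact this
  have h2 : psum a 2 = x + y := by
    have := psum_succ a (⟨1, by omega⟩ : Fin n)
    rw [ha] at this
    simp only [if_neg (one_ne_zero), if_pos] at this
    rw [← h1]
    exact this
  have h3 : psum a 3 = x + y + z := by
    have := psum_succ a (⟨2, by omega⟩ : Fin n)
    rw [ha] at this
    simp only [if_neg (two_ne_zero), if_neg (show ¬ (2 = 1) by omega), if_pos] at this
    rw [← h2]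
    exact this
  refine ⟨psum_zero a, h1, h2, ?_⟩
  intro c hc
  induction c, hc using Nat.le_induction with
  | base => exact fun _ => h3
  | succ c hc ih =>
    intro hcn
    have := psum_succ a (⟨c, by omega⟩ : Fin n)
    rw [ha] at this
    simp only [if_neg (show ¬ (c = 0) by omega), if_neg (show ¬ (c = 1) by omega), if_neg (show ¬ (c = 2) by omega),
      add_zero] at this
    rw [this]
    exact ih (by omega)

theorem sum_three (hn : 3 ≤ n) (ha : ∀ i : Fin n, a i = if i.val = 0 then x else if i.val = 1 then y else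
    if i.val = 2 then z else 0) : ∑ i, a i = x + y + z := by
  rw [← psum_last]
  exact (psum_three hn ha).2.2.2 n hn le_rfl

/-- flags `(x, x + y)` -/
theorem fz_three (hn : 3 ≤ n) (ha : ∀ i : Fin n, a i = if i.val = 0 then x else if i.val = 1 then y else
    if i.val = 2 then z else 0) (hs : x + y + z = n) (g : ProjectiveSpecialLinearGroup (Fin n) F) :
    Nat.card (MulAction.fixedBy (ProjectiveSpecialLinearGroup (Fin n) F ⧸ flg n F a) g) =
      Nat.card {u : Om F n x × Om F n (x + y) // u.1.1 ≤ u.2.1 ∧ g • u.1 = u.1 ∧ g • u.2 = u.2} := by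
  obtain ⟨h0, h1, h2, h3⟩ := psum_three hn ha
  refine fz_flg_fl (Nat.le_add_right _ _) (by omega) (by rw [sum_three hn ha, hs]) ?_ ⟨1, by omega, h1⟩
    ⟨2, by omega, h2⟩ g
  intro c hc
  rcases Nat.lt_or_ge c 3 with h4 | h4
  · interval_cases c
    · exact Or.inl h0
    · exact Or.inr (Or.inl h1)
    · exact Or.inr (Or.inr (Or.inl h2))
  · exact Or.inr (Or.inr (Or.inr (by rw [h3 c h4 hc, hs])))

/-- two parts: the `x`-subspaces -/
theorem fz_two (hn : 3 ≤ n) (ha : ∀ i : Fin n, a i = if i.val = 0 then x else if i.val = 1 then y else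
    if i.val = 2 then 0 else 0) (hs : x + y = n) (g : ProjectiveSpecialLinearGroup (Fin n) F) :
    Nat.card (MulAction.fixedBy (ProjectiveSpecialLinearGroup (Fin n) F ⧸ flg n F a) g) =
      Nat.card (MulAction.fixedBy (Om F n x) g) := by
  obtain ⟨h0, h1, h2, h3⟩ := psum_three hn ha
  refine fz_flg_om (by omega) (by rw [sum_three hn ha, add_zero, hs]) ?_ ⟨1, by omega, h1⟩ g
  intro c hc
  rcases Nat.lt_or_ge c 3 with h4 | h4
  · interval_cases c
    · exact Or.inl h0
    · exact Or.inr (Or.inl h1)
    · exact Or.inr (Or.inr (by rw [h2, hs]))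
  · exact Or.inr (Or.inr (by rw [h3 c h4 hc, add_zero, hs]))

end three

end Cfsg.Agent.H829.CY
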