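import Cfsg.Agent.H829.CY.Chi
import Cfsg.Agent.H139.CY.Psl

/-!
# S4829, PSL: the three row characters in terms of helper666's flags, all cases (helper829, from helper139's `psl_three`)
-/

set_option autoImplicit false
set_option linter.unusedSectionVars false
set_option linter.unusedVariables false

namespace Cfsg.Agent.H829.CY

open scoped MatrixGroups
open Matrix Finset Cfsg Module
open Cfsg.Agent.Characters.Core
open Cfsg.Agent.H139.CY Cfsg.Agent.H932.BR
open Cfsg.Agent.H145.BR Cfsg.Agent.H666.CY Cfsg.Agent.H770.CY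

variable {F : Type*} [Field F] {n : ℕ}

theorem ns_eq (k l : ℕ) (s : ProjectiveSpecialLinearGroup (Fin n) F) :
    (NS F n k l s : ℂ) = permC (ProjectiveSpecialLinearGroup (Fin n) F) (Fl F n k l) s := by
  show ((Nat.card {u : Om F n k × Om F n l // u.1.1 ≤ u.2.1 ∧ s • u.1 = u.1 ∧ s • u.2 = u.2} : ℕ) : ℂ) =
    (Nat.card (MulAction.fixedBy (Fl F n k l) s) : ℂ)
  congr 1
  refine Nat.card_congr
    { toFun := fun u => ⟨⟨u.1, u.2.1⟩, Subtype.ext (Prod.ext u.2.2.1 u.2.2.2)⟩
      invFun := fun u => ⟨u.1.1, u.1.2, ?_, ?_⟩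
      left_inv := fun _ => rfl
      right_inv := fun _ => rfl }
  · exact congrArg (fun y => y.1.1) u.2
  · exact congrArg (fun y => y.1.2) u.2

/-- **three rows, all cases**: `b + 1 = 2 j`, `b ≤ m`, `m + b + 1 = n` -/
theorem chi_three' [Fintype F] [Fintype (ProjectiveSpecialLinearGroup (Fin n) F)] (hn : 3 ≤ n) {m b j : ℕ}
    (hbm : b ≤ m) (hm : m + b + 1 = n) (hb : b + 1 = 2 * j) :
    ∃ χ : IrrCharacter (ProjectiveSpecialLinearGroup (Fin n) F),
      (χ : ProjectiveSpecialLinearGroup (Fin n) F → ℂ) ≠ (fun _ => 1) ∧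
      (∀ s, (χ : ProjectiveSpecialLinearGroup (Fin n) F → ℂ) s =
        permC (ProjectiveSpecialLinearGroup (Fin n) F) (Fl F n 1 (b + 1)) s -
        permC (ProjectiveSpecialLinearGroup (Fin n) F) (Fl F n 1 b) s -
        permC (ProjectiveSpecialLinearGroup (Fin n) F) (Fl F n 0 (b + 1)) s +
        permC (ProjectiveSpecialLinearGroup (Fin n) F) (Fl F n 0 (b - 1)) s) ∧
      (∀ (α : MulAut (ProjectiveSpecialLinearGroup (Fin n) F)) (s : ProjectiveSpecialLinearGroup (Fin n) F),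
        (χ : ProjectiveSpecialLinearGroup (Fin n) F → ℂ) (α s) = (χ : ProjectiveSpecialLinearGroup (Fin n) F → ℂ) s) ∧
      (∀ p : ℕ, Cyc p (χ : ProjectiveSpecialLinearGroup (Fin n) F → ℂ)) ∧
      classInner (permC (ProjectiveSpecialLinearGroup (Fin n) F) (Fl F n j (n - j)))
        (χ : ProjectiveSpecialLinearGroup (Fin n) F → ℂ) = 1 := by
  obtain ⟨χ, h1, h2, h3, h4, h5⟩ := psl_three (F := F) hn hb hbm hm
  refine ⟨χ, h1, fun s => ?_, h3, h4, ?_⟩
  · rw [h2 s, ns_eq, ns_eq, ns_eq, ns_eq]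
  · have h6 : (fun s => (NS F n j (n - j) s : ℂ)) =
        permC (ProjectiveSpecialLinearGroup (Fin n) F) (Fl F n j (n - j)) := by
      funext s
      exact ns_eq j (n - j) s
    rw [← h6]
    exact h5

end Cfsg.Agent.H829.CY
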