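import Cfsg.Agent.H829.CY.Bridge
import Cfsg.Agent.H139.CY.Irr
import Cfsg.Agent.H145.BR.CountDefs
import Cfsg.Agent.H666.CY.PslFl
import Cfsg.Agent.H477.CY.Inv
import Cfsg.Agent.H205.CY.Act

/-!
# S4829, PSL: the characters `(n - k, k)` and `(n - b - 1, b, 1)` in terms of helper666's flags (helper829)

* `permC_fl` : the permutation character on `Fl F n k l` is the flag character;
* `chi_two`, `chi_three` : the witnesses on `PSL_n(F)`, invariant under all automorphisms.
-/

set_option autoImplicit false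
set_option linter.unusedSectionVars false

namespace Cfsg.Agent.H829.CY

open scoped MatrixGroups
open Matrix Finset Cfsg Module
open Cfsg.Agent.Characters.Core
open Cfsg.Agent.H583.BR Cfsg.Agent.H139.BlockCount Cfsg.Agent.H139.FlagInner Cfsg.Agent.H932.BR Cfsg.Agent.H139.CY
open Cfsg.Agent.ClassicalGeometry.AutPSL.Root Cfsg.Agent.H145.BR Cfsg.Agent.H666.CY Cfsg.Agent.H770.CY

variable {F : Type*} [Field F] {n : ℕ}

theorem permC_fl {k l : ℕ} (hn : 3 ≤ n) (hkl : k ≤ l) (hl : l ≤ n) :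
    permC (ProjectiveSpecialLinearGroup (Fin n) F) (Fl F n k l) =
      fixedPointCharacter (flg n F (c3 n k (l - k) (n - l))) := by
  obtain ⟨y, rfl⟩ := Nat.exists_eq_add_of_le hkl
  obtain ⟨z, hz⟩ := Nat.exists_eq_add_of_le hl
  have e1 : k + y - k = y := by omega
  have e2 : n - (k + y) = z := by omega
  rw [e1, e2]
  funext g
  show (Nat.card (MulAction.fixedBy (Fl F n k (k + y)) g) : ℂ) = Nat.card (MulAction.fixedBy _ g)
  rw [fz_three (a := c3 n k y z) hn (fun i => rfl) hz.symm g]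
  congr 1
  refine Nat.card_congr
    { toFun := fun x => ⟨x.1.1, x.1.2, ?_, ?_⟩
      invFun := fun x => ⟨⟨x.1, x.2.1⟩, ?_⟩
      left_inv := fun _ => rfl
      right_inv := fun _ => rfl }
  · exact congrArg (fun y => y.1.1) x.2
  · exact congrArg (fun y => y.1.2) x.2
  · exact Subtype.ext (Prod.ext x.2.2.1 x.2.2.2)

theorem c3_two (hn : 3 ≤ n) (x y z : ℕ) : c3 n x y z ⟨2, by omega⟩ = z := by
  unfold c3
  simp

theorem c3_swap02 (hn : 3 ≤ n) (x y z : ℕ) :
    c3 n x y z ∘ Equiv.swap ⟨0, by omega⟩ ⟨2, by omega⟩ = c3 n z y x := by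
  funext i
  rw [Function.comp_apply]
  by_cases h0 : i = ⟨0, by omega⟩
  · rw [h0, Equiv.swap_apply_left, c3_two hn, c3_zero]
  · by_cases h1 : i = ⟨2, by omega⟩
    · rw [h1, Equiv.swap_apply_right, c3_two hn, c3_zero]
    · rw [Equiv.swap_apply_of_ne_of_ne h0 h1]
      unfold c3
      have h0' : i.1 ≠ 0 := fun h => h0 (Fin.ext h)
      have h1' : i.1 ≠ 2 := fun h => h1 (Fin.ext h)
      rw [if_neg h0', if_neg h0', if_neg h1', if_neg h1']

theorem fpc_swap02 {Γ : Type*} [Group Γ] [Fintype Γ] {Q : (Fin n → ℕ) → Subgroup Γ} (hn : 3 ≤ n) (hQ : YoungType Q)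
    {x y z : ℕ} (h : x + y + z = n) (g : Γ) : fz (Q (c3 n x y z)) g = fz (Q (c3 n z y x)) g := by
  rw [← c3_swap02 hn x y z, fz_comp hQ (by rw [sum_c3 hn, h])]

variable [Fintype F] [Fintype (ProjectiveSpecialLinearGroup (Fin n) F)]

/-- invariance under all automorphisms -/
theorem permC_aut (hn : 3 ≤ n) {k l : ℕ} (hkl : k ≤ l) (hl : l ≤ n)
    (α : MulAut (ProjectiveSpecialLinearGroup (Fin n) F)) (s : ProjectiveSpecialLinearGroup (Fin n) F) :
    permC (ProjectiveSpecialLinearGroup (Fin n) F) (Fl F n k l) (α s) =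
      permC (ProjectiveSpecialLinearGroup (Fin n) F) (Fl F n k l) s := by
  rw [permC_fl hn hkl hl, ← fz_cast, ← fz_cast,
    Cfsg.Agent.H477.CY.fz_flg_aut (by omega) α _ (by rw [sum_c3 hn]; omega)]

theorem fz_eq_permC (hn : 3 ≤ n) {k l : ℕ} (hkl : k ≤ l) (hl : l ≤ n) (s : ProjectiveSpecialLinearGroup (Fin n) F) :
    ((fz (flg n F (c3 n (n - l) (l - k) k)) s : ℤ) : ℂ) =
      permC (ProjectiveSpecialLinearGroup (Fin n) F) (Fl F n k l) s := by
  rw [fpc_swap02 hn (youngType_flg (by omega)) (by omega), fz_cast, permC_fl hn hkl hl]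

/-- **two rows `(n - k, k)`** -/
theorem chi_two (hn : 3 ≤ n) {k : ℕ} (hk : 1 ≤ k) (h2k : 2 * k ≤ n) :
    ∃ χ : IrrCharacter (ProjectiveSpecialLinearGroup (Fin n) F),
      (χ : ProjectiveSpecialLinearGroup (Fin n) F → ℂ) ≠ (fun _ => 1) ∧
      (∀ s, (χ : ProjectiveSpecialLinearGroup (Fin n) F → ℂ) s =
        permC (ProjectiveSpecialLinearGroup (Fin n) F) (Fl F n 0 k) s -
        permC (ProjectiveSpecialLinearGroup (Fin n) F) (Fl F n 0 (k - 1)) s) ∧
      (∀ (α : MulAut (ProjectiveSpecialLinearGroup (Fin n) F)) (s : ProjectiveSpecialLinearGroup (Fin n) F),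
        (χ : ProjectiveSpecialLinearGroup (Fin n) F → ℂ) (α s) = (χ : ProjectiveSpecialLinearGroup (Fin n) F → ℂ) s) ∧
      (∀ p : ℕ, Cyc p (χ : ProjectiveSpecialLinearGroup (Fin n) F → ℂ)) ∧
      (∀ j, 2 * j = n → classInner (permC (ProjectiveSpecialLinearGroup (Fin n) F) (Fl F n j (n - j)))
        (χ : ProjectiveSpecialLinearGroup (Fin n) F → ℂ) = 1) ∧
      (∀ j, 2 * j = k → classInner (permC (ProjectiveSpecialLinearGroup (Fin n) F) (Fl F n j (n - j)))
        (χ : ProjectiveSpecialLinearGroup (Fin n) F → ℂ) = 1) := by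
  have hQ : YoungType (flg n F) := youngType_flg (by omega)
  obtain ⟨χ, h1, h2, h3⟩ := two_rows hn hQ hk h2k
  have key : ∀ s, (χ : ProjectiveSpecialLinearGroup (Fin n) F → ℂ) s =
      permC (ProjectiveSpecialLinearGroup (Fin n) F) (Fl F n 0 k) s -
      permC (ProjectiveSpecialLinearGroup (Fin n) F) (Fl F n 0 (k - 1)) s := by
    intro s
    rw [h2, Int.cast_sub]
    have e1 := fz_eq_permC (F := F) hn (Nat.zero_le k) (by omega) s
    have e2 := fz_eq_permC (F := F) hn (Nat.zero_le (k - 1)) (by omega) s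
    rw [Nat.sub_zero] at e1 e2
    rw [e1, e2]
  refine ⟨χ, h1, key, ?_, ?_, ?_, ?_⟩
  · intro α s
    rw [key, key, permC_aut hn (Nat.zero_le k) (by omega), permC_aut hn (Nat.zero_le (k - 1)) (by omega)]
  · intro p k' hk' hk1 g
    rw [key, key, Cfsg.Agent.H205.CY.cyc_permC (p := p) _ k' hk' hk1 g, Cfsg.Agent.H205.CY.cyc_permC (p := p) _ k' hk' hk1 g]
  · intro j hj
    rw [permC_fl hn (by omega) (by omega)]
    have e1 : n - j - j = 0 := by omega
    have e2 : n - (n - j) = j := by omega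
    rw [e1, e2, h3 j 0 j (by omega) (by omega)]
    have : ee 0 j k = 1 := by unfold ee; omega
    rw [this, Nat.cast_one]
  · intro j hj
    rw [permC_fl hn (by omega) (by omega)]
    have e1 : n - j - j = n - 2 * j := by omega
    have e2 : n - (n - j) = j := by omega
    rw [e1, e2, fpc_swap hn hQ (by omega : (n - 2 * j) + j + j = n), h3 (n - 2 * j) j j (by omega) (by omega)]
    have : ee j j k = 1 := by unfold ee; omega
    rw [this, Nat.cast_one]

/-- **three rows `(n - b - 1, b, 1)`, `b = 2 j - 1`** -/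
theorem chi_three (hn : 3 ≤ n) {b j : ℕ} (hj : 1 ≤ j) (hb : b + 1 = 2 * j) (h2b : 2 * b + 2 ≤ n) :
    ∃ χ : IrrCharacter (ProjectiveSpecialLinearGroup (Fin n) F),
      (χ : ProjectiveSpecialLinearGroup (Fin n) F → ℂ) ≠ (fun _ => 1) ∧
      (∀ s, (χ : ProjectiveSpecialLinearGroup (Fin n) F → ℂ) s =
        permC (ProjectiveSpecialLinearGroup (Fin n) F) (Fl F n 1 (b + 1)) s -
        permC (ProjectiveSpecialLinearGroup (Fin n) F) (Fl F n 1 b) s -
        permC (ProjectiveSpecialLinearGroup (Fin n) F) (Fl F n 0 (b + 1)) s +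
        permC (ProjectiveSpecialLinearGroup (Fin n) F) (Fl F n 0 (b - 1)) s) ∧
      (∀ (α : MulAut (ProjectiveSpecialLinearGroup (Fin n) F)) (s : ProjectiveSpecialLinearGroup (Fin n) F),
        (χ : ProjectiveSpecialLinearGroup (Fin n) F → ℂ) (α s) = (χ : ProjectiveSpecialLinearGroup (Fin n) F → ℂ) s) ∧
      (∀ p : ℕ, Cyc p (χ : ProjectiveSpecialLinearGroup (Fin n) F → ℂ)) ∧
      classInner (permC (ProjectiveSpecialLinearGroup (Fin n) F) (Fl F n j (n - j)))
        (χ : ProjectiveSpecialLinearGroup (Fin n) F → ℂ) = 1 := by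
  have hQ : YoungType (flg n F) := youngType_flg (by omega)
  obtain ⟨χ, h1, h2, h3⟩ := three_rows_flag hn hQ hj (by omega)
  have key : ∀ s, (χ : ProjectiveSpecialLinearGroup (Fin n) F → ℂ) s =
        permC (ProjectiveSpecialLinearGroup (Fin n) F) (Fl F n 1 (b + 1)) s -
        permC (ProjectiveSpecialLinearGroup (Fin n) F) (Fl F n 1 b) s -
        permC (ProjectiveSpecialLinearGroup (Fin n) F) (Fl F n 0 (b + 1)) s +
        permC (ProjectiveSpecialLinearGroup (Fin n) F) (Fl F n 0 (b - 1)) s := by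
    intro s
    rw [h2]
    have e1 := fz_eq_permC (F := F) hn (show 1 ≤ b + 1 by omega) (by omega) s
    have e2 := fz_eq_permC (F := F) hn (show 0 ≤ b + 1 by omega) (by omega) s
    have e3 := fz_eq_permC (F := F) hn (show 1 ≤ b by omega) (by omega) s
    have e4 := fz_eq_permC (F := F) hn (show 0 ≤ b - 1 by omega) (by omega) s
    have a1 : n - (b + 1) = n - 2 * j := by omega
    have a2 : b + 1 - 1 = 2 * j - 1 := by omega
    have a3 : b + 1 - 0 = 2 * j := by omega
    have a4 : n - b = n - 2 * j + 1 := by omega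
    have a5 : b - 1 = 2 * j - 2 := by omega
    have a6 : n - (b - 1) = n - 2 * j + 2 := by omega
    have a7 : b - 1 - 0 = 2 * j - 2 := by omega
    rw [a1, a2] at e1
    rw [a1, a3] at e2
    rw [a4, a5] at e3
    rw [a6, a7] at e4
    rw [← e1, ← e2, ← e3, ← e4]
    push_cast
    ring
  refine ⟨χ, h1, key, ?_, ?_, ?_⟩
  · intro α s
    rw [key, key, permC_aut hn (show 1 ≤ b + 1 by omega) (by omega), permC_aut hn (show 1 ≤ b by omega) (by omega),
      permC_aut hn (show 0 ≤ b + 1 by omega) (by omega), permC_aut hn (show 0 ≤ b - 1 by omega) (by omega)]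
  · intro p k' hk' hk1 g
    rw [key, key, Cfsg.Agent.H205.CY.cyc_permC (p := p) _ k' hk' hk1 g, Cfsg.Agent.H205.CY.cyc_permC (p := p) _ k' hk' hk1 g,
      Cfsg.Agent.H205.CY.cyc_permC (p := p) _ k' hk' hk1 g, Cfsg.Agent.H205.CY.cyc_permC (p := p) _ k' hk' hk1 g]
  · rw [permC_fl hn (by omega) (by omega)]
    have e1 : n - j - j = n - 2 * j := by omega
    have e2 : n - (n - j) = j := by omega
    rw [e1, e2]
    exact h3

end Cfsg.Agent.H829.CY
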